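import Groth.Agent.Lib.CIReg6.KoszulH1
import Mathlib

/-!
# Counting relations modulo the Koszul relations
-/

set_option autoImplicit false
set_option linter.style.haveILetI false

open IsLocalRing

namespace Groth.Agent.GeomDepth2

universe u v

variable {A : Type u} [CommRing A]

/-- `r` relations generate all relations of `x` modulo the Koszul relations. -/
def GenNum {n : ℕ} (x : Fin n → A) (r : ℕ) : Prop :=
  ∃ w : Fin r → (Fin n → A), (∀ k, w k ∈ LinearMap.ker (CIReg6.comb x (M := A))) ∧
    LinearMap.ker (CIReg6.comb x (M := A)) ≤ Submodule.span A (Set.range w) ⊔ CIReg6.triv x A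

/-- The basic Koszul relation. -/
def kos {n : ℕ} (x : Fin n → A) (p : Fin n × Fin n) : Fin n → A :=
  x p.2 • (Pi.single p.1 1 : Fin n → A) - x p.1 • (Pi.single p.2 1 : Fin n → A)

theorem triv_eq_span {n : ℕ} (x : Fin n → A) :
    CIReg6.triv x A = Submodule.span A (Set.range (kos x)) := by
  refine le_antisymm (Submodule.span_le.2 ?_) (Submodule.span_le.2 ?_)
  · rintro _ ⟨i, j, a, rfl⟩
    have e : ∀ l : Fin n, (Pi.single l a : Fin n → A) = a • (Pi.single l 1 : Fin n → A) := fun l => by
      rw [← Pi.single_smul', smul_eq_mul, mul_one]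
    have : x j • (Pi.single i a : Fin n → A) - x i • (Pi.single j a : Fin n → A) = a • kos x (i, j) := by
      rw [kos, smul_sub, smul_comm a (x j), smul_comm a (x i), ← e i, ← e j]
    rw [this]
    exact Submodule.smul_mem _ a (Submodule.subset_span ⟨_, rfl⟩)
  · rintro _ ⟨p, rfl⟩
    exact Submodule.subset_span ⟨p.1, p.2, 1, rfl⟩

/-- An irredundant family modulo `T` is no longer than one generating it modulo `T`. -/
theorem card_le_of_irredundant [IsLocalRing A] {M : Type v} [AddCommGroup M] [Module A M] (T : Submodule A M)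
    {s r : ℕ} (w : Fin s → M) (v : Fin r → M)
    (hirr : ∀ a : Fin s → A, ∑ k, a k • w k ∈ T → ∀ k, a k ∈ maximalIdeal A)
    (hw : ∀ k, w k ∈ Submodule.span A (Set.range v) ⊔ T)
    (hv : ∀ l, v l ∈ Submodule.span A (Set.range w) ⊔ T) : s ≤ r := by
  classical
  have key : ∀ {p : ℕ} (g : Fin p → M) (z : M), z ∈ Submodule.span A (Set.range g) ⊔ T →
      ∃ c : Fin p → A, z - ∑ i, c i • g i ∈ T := by
    intro p g z hz
    obtain ⟨y, hy, t, ht, rfl⟩ := Submodule.mem_sup.1 hz
    obtain ⟨c, rfl⟩ := (Submodule.mem_span_range_iff_exists_fun A).1 hy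
    exact ⟨c, by simpa using ht⟩
  choose P hP using fun k => key v (w k) (hw k)
  choose Q hQ using fun l => key w (v l) (hv l)
  have hrow : ∀ k, ∀ k', (Pi.single k 1 : Fin s → A) k' - ∑ l, P k l * Q l k' ∈ maximalIdeal A := by
    intro k
    refine hirr _ ?_
    have e : ∑ k', ((Pi.single k 1 : Fin s → A) k' - ∑ l, P k l * Q l k') • w k' =
        (w k - ∑ l, P k l • v l) + ∑ l, P k l • (v l - ∑ k', Q l k' • w k') := by
      simp only [sub_smul, Finset.sum_sub_distrib, smul_sub, Finset.sum_smul, mul_smul,
        Finset.smul_sum]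
      rw [Finset.sum_eq_single k (fun b _ hb => by rw [Pi.single_eq_of_ne hb, zero_smul]) (by simp),
        Pi.single_eq_same, one_smul, Finset.sum_comm]
      abel
    rw [e]
    exact add_mem (hP k) (T.sum_mem fun l _ => T.smul_mem _ (hQ l))
  let Pm : Matrix (Fin s) (Fin r) (ResidueField A) := Matrix.of fun k l => residue A (P k l)
  let Qm : Matrix (Fin r) (Fin s) (ResidueField A) := Matrix.of fun l k => residue A (Q l k)
  have hPQ : Pm * Qm = 1 := by
    ext k k'
    have h := (residue_eq_zero_iff _).2 (hrow k k')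
    rw [map_sub, map_sum, sub_eq_zero] at h
    simp only [map_mul] at h
    rw [Matrix.mul_apply]
    refine Eq.trans h.symm ?_
    rw [Matrix.one_apply, Pi.single_apply]
    by_cases hk : k = k'
    · simp [hk]
    · simp [hk, Ne.symm hk]
  have h1 : (1 : Matrix (Fin s) (Fin s) (ResidueField A)).rank ≤ Pm.rank := by
    rw [← hPQ]; exact Matrix.rank_mul_le_left _ _
  rw [Matrix.rank_one, Fintype.card_fin] at h1
  exact h1.trans ((Matrix.rank_le_card_width _).trans (Fintype.card_fin r).le)

/-- Removing a redundant member of a generating family modulo `T`. -/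
theorem exists_remove {M : Type v} [AddCommGroup M] [Module A M] (T : Submodule A M)
    {s : ℕ} (w : Fin (s + 1) → M) (a : Fin (s + 1) → A) (k : Fin (s + 1)) (hk : IsUnit (a k))
    (ha : ∑ i, a i • w i ∈ T) :
    Submodule.span A (Set.range w) ≤ Submodule.span A (Set.range (w ∘ k.succAbove)) ⊔ T := by
  refine Submodule.span_le.2 ?_
  rintro _ ⟨i, rfl⟩
  rcases Fin.eq_self_or_eq_succAbove k i with rfl | ⟨j, rfl⟩
  · obtain ⟨b, hb⟩ := hk.exists_left_inv
    rw [Fin.sum_univ_succAbove _ i] at ha
    have h1 : a i • w i ∈ Submodule.span A (Set.range (w ∘ i.succAbove)) ⊔ T := by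
      have hS : ∑ j, a (i.succAbove j) • w (i.succAbove j) ∈ Submodule.span A (Set.range (w ∘ i.succAbove)) :=
        Submodule.sum_mem _ fun j _ => Submodule.smul_mem _ _ (Submodule.subset_span ⟨j, rfl⟩)
      rw [show a i • w i = (a i • w i + ∑ j, a (i.succAbove j) • w (i.succAbove j))
        - ∑ j, a (i.succAbove j) • w (i.succAbove j) by abel]
      exact sub_mem (Submodule.mem_sup_right ha) (Submodule.mem_sup_left hS)
    have h2 := Submodule.smul_mem _ b h1
    rwa [smul_smul, hb, one_smul] at h2
  · exact Submodule.mem_sup_left (Submodule.subset_span ⟨j, rfl⟩)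

/-- A shortest family of relations is irredundant. -/
theorem irredundant_of_minimal [IsLocalRing A] {n : ℕ} (x : Fin n → A) {r : ℕ}
    (hmin : ∀ r', GenNum x r' → r ≤ r') (w : Fin r → (Fin n → A))
    (hwz : ∀ k, w k ∈ LinearMap.ker (CIReg6.comb x (M := A)))
    (hw : LinearMap.ker (CIReg6.comb x (M := A)) ≤ Submodule.span A (Set.range w) ⊔ CIReg6.triv x A)
    (a : Fin r → A) (ha : ∑ k, a k • w k ∈ CIReg6.triv x A) (k : Fin r) : a k ∈ maximalIdeal A := by
  by_contra hk
  have hu : IsUnit (a k) := by
    by_contra h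
    exact hk ((mem_maximalIdeal _).2 h)
  cases r with
  | zero => exact k.elim0
  | succ s =>
    have := exists_remove (CIReg6.triv x A) w a k hu ha
    have h := hmin s ⟨w ∘ k.succAbove, fun j => hwz _, hw.trans (sup_le this le_sup_right)⟩
    omega

/-- Generators of the maximal ideal are irredundant when there are as few as possible. -/
theorem coeff_mem_of_minimal [IsLocalRing A] [IsNoetherianRing A] {n : ℕ} (x : Fin n → A)
    (hx : Ideal.span (Set.range x) = maximalIdeal A) (hn : n ≤ (maximalIdeal A).spanFinrank)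
    (a : Fin n → A) (ha : ∑ i, a i * x i ∈ maximalIdeal A ^ 2) (k : Fin n) : a k ∈ maximalIdeal A := by
  classical
  by_contra hk
  have hu : IsUnit (a k) := by
    by_contra h
    exact hk ((mem_maximalIdeal _).2 h)
  cases n with
  | zero => exact k.elim0
  | succ s =>
    have h1 := exists_remove (M := A) (maximalIdeal A ^ 2) x a k hu (by simpa [smul_eq_mul] using ha)
    have h2 : maximalIdeal A ≤ Ideal.span (Set.range (x ∘ k.succAbove)) ⊔ maximalIdeal A • maximalIdeal A := by
      rw [smul_eq_mul, ← pow_two]
      exact hx.ge.trans h1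
    have h3 : maximalIdeal A ≤ Ideal.span (Set.range (x ∘ k.succAbove)) :=
      Submodule.le_of_le_smul_of_le_jacobson_bot (IsNoetherian.noetherian _)
        (maximalIdeal_le_jacobson ⊥) h2
    have h4 : maximalIdeal A = Ideal.span (Set.range (x ∘ k.succAbove)) :=
      le_antisymm h3 ((Ideal.span_mono (Set.range_comp_subset_range _ _)).trans hx.le)
    have h5 : (maximalIdeal A).spanFinrank ≤ s := by
      rw [h4]
      refine (Submodule.spanFinrank_span_le_ncard_of_finite (Set.finite_range _)).trans ?_
      rw [← Nat.card_coe_set_eq]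
      exact (Finite.card_range_le _).trans (Nat.card_fin s).le
    omega

/-- Relations of a weakly regular sequence are Koszul. -/
theorem ker_comb_le_triv : ∀ {n : ℕ} (f : Fin n → A), RingTheory.Sequence.IsWeaklyRegular A (List.ofFn f) →
    LinearMap.ker (CIReg6.comb f (M := A)) ≤ CIReg6.triv f A
  | 0, f, _ => fun z _ => by rw [show z = 0 from funext fun i => i.elim0]; exact zero_mem _
  | n + 1, f, h => by
    intro z hz
    let g : Fin n → A := fun i => f i.castSucc
    rw [List.ofFn_succ', List.concat_eq_append, RingTheory.Sequence.isWeaklyRegular_append_iff,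
      RingTheory.Sequence.isWeaklyRegular_singleton_iff] at h
    obtain ⟨hg, hlast⟩ := h
    rw [LinearMap.mem_ker, CIReg6.comb_apply, Fin.sum_univ_castSucc] at hz
    have hmem : f (Fin.last n) • z (Fin.last n) ∈ LinearMap.range (CIReg6.comb g (M := A)) :=
      ⟨-(fun i => z i.castSucc), by
        rw [map_neg, CIReg6.comb_apply, neg_eq_iff_add_eq_zero]
        exact hz⟩
    have hz0 : (Submodule.Quotient.mk (z (Fin.last n)) :
        A ⧸ (Ideal.ofList (List.ofFn g) • (⊤ : Submodule A A))) = 0 := by
      refine IsSMulRegular.right_eq_zero_of_smul hlast ?_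
      rw [← Submodule.Quotient.mk_smul, Submodule.Quotient.mk_eq_zero, CIReg6.ofList_smul_top]
      exact hmem
    rw [Submodule.Quotient.mk_eq_zero, CIReg6.ofList_smul_top] at hz0
    obtain ⟨c, hc⟩ := hz0
    let z' : Fin n → A := (fun i => z i.castSucc) + f (Fin.last n) • c
    have hz' : z' ∈ LinearMap.ker (CIReg6.comb g (M := A)) := by
      rw [LinearMap.mem_ker, map_add, map_smul, hc, CIReg6.comb_apply]
      exact hz
    let emb : (Fin n → A) →ₗ[A] (Fin (n + 1) → A) :=
      LinearMap.pi (Fin.lastCases (motive := fun _ => (Fin n → A) →ₗ[A] A) 0 fun i => LinearMap.proj i)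
    have hemb : ∀ (w : Fin n → A) (i : Fin n), emb w i.castSucc = w i := fun w i => by simp [emb]
    have hemb' : ∀ (w : Fin n → A), emb w (Fin.last n) = 0 := fun w => by simp [emb]
    have htriv : CIReg6.triv g A ≤ (CIReg6.triv f A).comap emb := by
      rw [triv_eq_span, triv_eq_span, Submodule.span_le]
      rintro _ ⟨p, rfl⟩
      refine Submodule.subset_span ⟨(p.1.castSucc, p.2.castSucc), ?_⟩
      funext i
      induction i using Fin.lastCases with
      | last => simp [hemb', kos, Pi.single_apply, (Fin.castSucc_lt_last _).ne']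
      | cast i => simp [hemb, kos, g, Pi.single_apply]
    have h1 : emb z' ∈ CIReg6.triv f A := htriv (ker_comb_le_triv g hg hz')
    have h2 : z = emb z' + ∑ i, c i • (- kos f (i.castSucc, Fin.last n)) := by
      funext j
      rw [Pi.add_apply, Finset.sum_apply]
      induction j using Fin.lastCases with
      | last =>
        rw [hemb', zero_add, ← hc, CIReg6.comb_apply]
        refine Finset.sum_congr rfl fun i _ => ?_
        simp [kos, g, Pi.single_apply, (Fin.castSucc_lt_last i).ne', mul_comm]
      | cast j =>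
        rw [hemb, Finset.sum_eq_single j]
        · simp [z', kos, Pi.single_apply, (Fin.castSucc_lt_last j).ne, mul_comm]
        · intro i _ hi
          simp [kos, Pi.single_apply, Ne.symm hi, (Fin.castSucc_lt_last j).ne]
        · simp
    rw [h2, triv_eq_span] at *
    exact add_mem h1 (Submodule.sum_mem _ fun i _ => Submodule.smul_mem _ _ (neg_mem (Submodule.subset_span ⟨_, rfl⟩)))

end Groth.Agent.GeomDepth2
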