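import Groth.Agent.Lib.GeomDepth2.Presentation

/-!
# Relations under flat local homomorphisms
-/

set_option autoImplicit false
set_option linter.style.haveILetI false
set_option backward.isDefEq.respectTransparency.types false

open IsLocalRing

namespace Groth.Agent.GeomDepth2

universe u

variable {A A' : Type u} [CommRing A] [CommRing A'] [Algebra A A']

/-- Linear relations with coefficients in a flat algebra come from those over the base. -/
theorem flat_relation [Module.Flat A A'] {ι : Type} [Fintype ι] {n : ℕ} (v : ι → Fin n → A) (c : ι → A')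
    (h : ∀ i, ∑ l, c l * algebraMap A A' (v l i) = 0) :
    ∃ (k : ℕ) (d : Fin k → ι → A) (z : Fin k → A'),
      (∀ m, ∑ l, d m l • v l = 0) ∧ ∀ l, c l = ∑ m, algebraMap A A' (d m l) * z m := by
  classical
  let F : (Fin n → A) →ₗ[A] (ι → A) := Fintype.linearCombination A fun i l => v l i
  let x : (ι → A) →ₗ[A] A' := Fintype.linearCombination A c
  have hF : ∀ i, F (Pi.single i 1) = fun l => v l i := fun i => by
    funext l
    simp [F, Fintype.linearCombination_apply_single]
  have hxF : x ∘ₗ F = 0 := by
    refine (Pi.basisFun A (Fin n)).ext fun i => ?_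
    rw [LinearMap.comp_apply, LinearMap.zero_apply, Pi.basisFun_apply, hF]
    simp only [x, Fintype.linearCombination_apply, Algebra.smul_def]
    rw [← h i]
    exact Finset.sum_congr rfl fun l _ => mul_comm _ _
  obtain ⟨k, a, y, hxy, haF⟩ := Module.Flat.exists_factorization_of_comp_eq_zero_of_free hxF
  refine ⟨k, fun m l => a (Pi.single l 1) m, fun m => y (Finsupp.single m 1), fun m => ?_, fun l => ?_⟩
  · funext i
    have h1 : a (F (Pi.single i 1)) m = 0 := by
      rw [show a (F (Pi.single i 1)) = (a ∘ₗ F) (Pi.single i 1) from rfl, haF]; rfl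
    rw [hF i, pi_eq_sum_univ' (fun l => v l i), map_sum, Finsupp.finsetSum_apply] at h1
    simp only [map_smul, Finsupp.smul_apply, smul_eq_mul] at h1
    simpa [Finset.sum_apply, mul_comm] using h1
  · have h1 : x (Pi.single l 1) = c l := by simp [x, Fintype.linearCombination_apply_single]
    rw [← h1, hxy, LinearMap.comp_apply]
    conv_lhs => rw [← Finsupp.univ_sum_single (a (Pi.single l 1)), map_sum]
    refine Finset.sum_congr rfl fun m _ => ?_
    rw [← Algebra.smul_def, ← map_smul]
    simp

variable (A')

/-- Generators of the relations go to generators of the relations. -/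
theorem genNum_map [Module.Flat A A'] {n r : ℕ} (x : Fin n → A) (w : Fin r → Fin n → A)
    (hwz : ∀ k, w k ∈ LinearMap.ker (CIReg6.comb x (M := A)))
    (hw : LinearMap.ker (CIReg6.comb x (M := A)) ≤ Submodule.span A (Set.range w) ⊔ CIReg6.triv x A) :
    (∀ k, (fun i => algebraMap A A' (w k i)) ∈
        LinearMap.ker (CIReg6.comb (fun i => algebraMap A A' (x i)) (M := A'))) ∧
      LinearMap.ker (CIReg6.comb (fun i => algebraMap A A' (x i)) (M := A')) ≤
        Submodule.span A' (Set.range fun k i => algebraMap A A' (w k i)) ⊔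
          CIReg6.triv (fun i => algebraMap A A' (x i)) A' := by
  refine ⟨fun k => ?_, fun z hz => ?_⟩
  · rw [LinearMap.mem_ker, ← map_comb, LinearMap.mem_ker.1 (hwz k), map_zero]
  · rw [LinearMap.mem_ker, CIReg6.comb_apply] at hz
    obtain ⟨k, d, zz, hd, hzz⟩ := flat_relation (ι := Fin n) (n := 1) (fun i _ => x i) z fun _ => by
      simpa [mul_comm] using hz
    have e : z = ∑ m, zz m • fun i => algebraMap A A' (d m i) := by
      funext i
      simp [hzz i, Finset.sum_apply, mul_comm]
    rw [e]
    refine Submodule.sum_mem _ fun m _ => Submodule.smul_mem _ _ ?_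
    have hdz : d m ∈ LinearMap.ker (CIReg6.comb x (M := A)) := by
      rw [LinearMap.mem_ker, CIReg6.comb_apply]
      have := congrFun (hd m) 0
      simpa [Finset.sum_apply, mul_comm] using this
    obtain ⟨s, hs, t, ht, hst⟩ := Submodule.mem_sup.1 (hw hdz)
    obtain ⟨a, rfl⟩ := (Submodule.mem_span_range_iff_exists_fun A).1 hs
    have e2 : (fun i => algebraMap A A' (d m i)) =
        (∑ j, algebraMap A A' (a j) • fun i => algebraMap A A' (w j i)) + fun i => algebraMap A A' (t i) := by
      funext i
      simp [← hst, Finset.sum_apply, Algebra.smul_def]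
    rw [e2]
    exact add_mem (Submodule.mem_sup_left (Submodule.sum_mem _ fun j _ =>
      Submodule.smul_mem _ _ (Submodule.subset_span ⟨j, rfl⟩))) (Submodule.mem_sup_right (map_mem_triv _ x ht))

variable [IsLocalRing A] [IsLocalRing A'] [IsLocalHom (algebraMap A A')]

/-- An irredundant family of relations stays irredundant. -/
theorem irredundant_map [Module.Flat A A'] {n r : ℕ} (x : Fin n → A) (w : Fin r → Fin n → A)
    (hirr : ∀ a : Fin r → A, ∑ k, a k • w k ∈ CIReg6.triv x A → ∀ k, a k ∈ maximalIdeal A)
    (c : Fin r → A') (hc : ∑ k, c k • (fun i => algebraMap A A' (w k i)) ∈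
      CIReg6.triv (fun i => algebraMap A A' (x i)) A') (k : Fin r) : c k ∈ maximalIdeal A' := by
  classical
  rw [triv_eq_span, Submodule.mem_span_range_iff_exists_fun] at hc
  obtain ⟨τ, hτ⟩ := hc
  obtain ⟨p, d, zz, hd, hzz⟩ := flat_relation (A := A) (A' := A') (ι := Fin r ⊕ (Fin n × Fin n))
    (Sum.elim w (kos x)) (Sum.elim c fun q => - τ q) fun i => by
      have := congrFun hτ i
      simp only [Finset.sum_apply, Pi.smul_apply, smul_eq_mul] at this
      rw [Fintype.sum_sum_type]
      simp only [Sum.elim_inl, Sum.elim_inr]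
      rw [← this, ← Finset.sum_add_distrib]
      refine Finset.sum_eq_zero fun q _ => ?_
      simp [kos, Pi.single_apply, apply_ite (algebraMap A A'), Algebra.smul_def]
  rw [← Sum.elim_inl (f := c) (g := fun q => - τ q) (x := k), hzz]
  refine Submodule.sum_mem _ fun m _ => Ideal.mul_mem_right _ _ (map_nonunit (algebraMap A A') _ ?_)
  refine hirr (fun j => d m (Sum.inl j)) ?_ k
  have h1 := hd m
  rw [Fintype.sum_sum_type] at h1
  simp only [Sum.elim_inl, Sum.elim_inr] at h1
  rw [eq_neg_of_add_eq_zero_left h1, triv_eq_span]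
  exact neg_mem (Submodule.sum_mem _ fun q _ => Submodule.smul_mem _ _ (Submodule.subset_span ⟨q, rfl⟩))

variable [IsNoetherianRing A] [IsNoetherianRing A']

/-- A flat local homomorphism generating the maximal ideal preserves minimal generators and relations. -/
theorem min_map [Module.Flat A A'] (hmax : (maximalIdeal A).map (algebraMap A A') = maximalIdeal A') {n r : ℕ}
    (x : Fin n → A) (hx : Ideal.span (Set.range x) = maximalIdeal A) (hn : n = (maximalIdeal A).spanFinrank)
    (hr : GenNum x r) (hmin : ∀ r', GenNum x r' → r ≤ r') :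
    Ideal.span (Set.range fun i => algebraMap A A' (x i)) = maximalIdeal A' ∧
      n = (maximalIdeal A').spanFinrank ∧ GenNum (fun i => algebraMap A A' (x i)) r ∧
      ∀ r', GenNum (fun i => algebraMap A A' (x i)) r' → r ≤ r' := by
  classical
  have hx' : Ideal.span (Set.range fun i => algebraMap A A' (x i)) = maximalIdeal A' := by
    rw [← hmax, ← hx, Ideal.map_span, ← Set.range_comp]; rfl
  refine ⟨hx', le_antisymm ?_ ?_, ?_, fun r' hr' => ?_⟩
  · obtain ⟨y, hy⟩ := exists_fin_gens (maximalIdeal A')
    refine card_le_of_irredundant (⊥ : Submodule A' A') (fun i => algebraMap A A' (x i)) y (fun a ha k => ?_)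
      (fun k => ?_) (fun l => ?_)
    · obtain ⟨p, d, zz, hd, hzz⟩ := flat_relation (A := A) (ι := Fin n) (n := 1) (fun i _ => x i) a fun _ => by
        simpa using ha
      rw [hzz k]
      refine Submodule.sum_mem _ fun m _ => Ideal.mul_mem_right _ _ (map_nonunit (algebraMap A A') _ ?_)
      refine coeff_mem_of_minimal x hx hn.le (d m) ?_ k
      have := congrFun (hd m) 0
      simp only [Finset.sum_apply, Pi.smul_apply, smul_eq_mul, Pi.zero_apply] at this
      rw [this]
      exact zero_mem _
    · exact Submodule.mem_sup_left (hy.ge (hx'.le (Ideal.subset_span ⟨k, rfl⟩)))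
    · exact Submodule.mem_sup_left (hx'.ge (hy.le (Ideal.subset_span ⟨l, rfl⟩)))
  · rw [← hx']
    refine (Submodule.spanFinrank_span_le_ncard_of_finite (Set.finite_range _)).trans ?_
    rw [← Nat.card_coe_set_eq]
    exact (Finite.card_range_le _).trans (Nat.card_fin n).le
  · obtain ⟨w, hwz, hw⟩ := hr
    exact ⟨_, (genNum_map A' x w hwz hw).1, (genNum_map A' x w hwz hw).2⟩
  · obtain ⟨w, hwz, hw⟩ := hr
    obtain ⟨w', hwz', hw'⟩ := hr'
    obtain ⟨h1, h2⟩ := genNum_map A' x w hwz hw
    exact card_le_of_irredundant _ (fun k i => algebraMap A A' (w k i)) w'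
      (irredundant_map A' x w fun a ha k => irredundant_of_minimal x hmin w hwz hw a ha k)
      (fun k => hw' (h1 k)) (fun l => h2 (hwz' l))

end Groth.Agent.GeomDepth2
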