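import Groth.Agent.Lib.GeomDepth2.Count
import Groth.Agent.Lib.RegLoc.Quotient
import Groth.Agent.Lib.CI2.Regular

/-!
# Relations of a minimal presentation by a regular local ring
-/

set_option autoImplicit false
set_option linter.style.haveILetI false
set_option backward.isDefEq.respectTransparency.types false

open IsLocalRing

namespace Groth.Agent.GeomDepth2

universe u

variable {B A : Type u} [CommRing B] [CommRing A] (f : B →+* A)

theorem map_comb {n : ℕ} (X : Fin n → B) (b : Fin n → B) :
    f (CIReg6.comb X b) = CIReg6.comb (fun i => f (X i)) (fun i => f (b i)) := by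
  simp [CIReg6.comb_apply, map_sum]

theorem map_mem_triv {n : ℕ} (X : Fin n → B) {t : Fin n → B} (ht : t ∈ CIReg6.triv X B) :
    (fun i => f (t i)) ∈ CIReg6.triv (fun i => f (X i)) A := by
  induction ht using Submodule.span_induction with
  | mem z hz =>
    obtain ⟨i, j, b, rfl⟩ := hz
    refine Submodule.subset_span ⟨i, j, f b, ?_⟩
    funext k
    simp [Pi.single_apply, apply_ite f]
  | zero => convert zero_mem (CIReg6.triv (fun i => f (X i)) A); simp
  | add a b _ _ ha hb => convert add_mem ha hb using 1; funext k; simp
  | smul c a _ ha => convert Submodule.smul_mem _ (f c) ha using 1; funext k; simp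

theorem exists_triv_lift (hf : Function.Surjective f) {n : ℕ} (X : Fin n → B) {t : Fin n → A}
    (ht : t ∈ CIReg6.triv (fun i => f (X i)) A) :
    ∃ t' ∈ CIReg6.triv X B, (fun i => f (t' i)) = t := by
  induction ht using Submodule.span_induction with
  | mem z hz =>
    obtain ⟨i, j, a, rfl⟩ := hz
    obtain ⟨b, rfl⟩ := hf a
    refine ⟨_, Submodule.subset_span ⟨i, j, b, rfl⟩, ?_⟩
    funext k
    simp [Pi.single_apply, apply_ite f]
  | zero => exact ⟨0, zero_mem _, by funext k; simp⟩
  | add a b _ _ ha hb =>
    obtain ⟨a', ha', rfl⟩ := ha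
    obtain ⟨b', hb', rfl⟩ := hb
    exact ⟨a' + b', add_mem ha' hb', by funext k; simp⟩
  | smul c a _ ha =>
    obtain ⟨a', ha', rfl⟩ := ha
    obtain ⟨c', rfl⟩ := hf c
    exact ⟨c' • a', Submodule.smul_mem _ c' ha', by funext k; simp⟩

theorem exists_combination {n : ℕ} (X : Fin n → B) {b : B} (hb : b ∈ Ideal.span (Set.range X)) :
    ∃ c : Fin n → B, CIReg6.comb X c = b := by
  obtain ⟨c, hc⟩ := (Submodule.mem_span_range_iff_exists_fun B).1 hb
  exact ⟨c, by rw [CIReg6.comb_apply, ← hc]; exact Finset.sum_congr rfl fun i _ => by simp [mul_comm]⟩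

/-- Generators of the kernel give generators of the relations. -/
theorem genNum_of_gens (hf : Function.Surjective f) {n : ℕ} (X : Fin n → B)
    (hI : RingHom.ker f ≤ Ideal.span (Set.range X))
    (hK : LinearMap.ker (CIReg6.comb X (M := B)) ≤ CIReg6.triv X B)
    {r : ℕ} (g : Fin r → B) (hg : Ideal.span (Set.range g) = RingHom.ker f) :
    GenNum (fun i => f (X i)) r := by
  have hgm : ∀ k, g k ∈ RingHom.ker f := fun k => hg ▸ Ideal.subset_span ⟨k, rfl⟩
  choose b hb using fun k => exists_combination X (hI (hgm k))
  refine ⟨fun k i => f (b k i), fun k => ?_, fun z hz => ?_⟩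
  · rw [LinearMap.mem_ker, ← map_comb, hb]; exact hgm k
  · choose z' hz' using fun i => hf (z i)
    have hzI : CIReg6.comb X z' ∈ RingHom.ker f := by
      rw [RingHom.mem_ker, map_comb, show (fun i => f (z' i)) = z from funext hz']
      exact hz
    obtain ⟨c, hc⟩ := (Submodule.mem_span_range_iff_exists_fun B).1 (hg.ge hzI)
    have ht : z' - ∑ k, c k • b k ∈ CIReg6.triv X B := hK (by
      rw [LinearMap.mem_ker, map_sub, map_sum]
      simp only [map_smul, hb]
      rw [hc, sub_self])
    have e : z = (∑ k, f (c k) • fun i => f (b k i)) + fun i => f ((z' - ∑ k, c k • b k) i) := by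
      funext i
      simp [hz', Finset.sum_apply]
    rw [e]
    exact add_mem (Submodule.mem_sup_left (Submodule.sum_mem _ fun k _ =>
      Submodule.smul_mem _ _ (Submodule.subset_span ⟨k, rfl⟩))) (Submodule.mem_sup_right (map_mem_triv f X ht))

/-- Generators of the relations give generators of the kernel. -/
theorem spanFinrank_ker_le [IsLocalRing B] [IsNoetherianRing B] (hf : Function.Surjective f) {n : ℕ}
    (X : Fin n → B) (hX : Ideal.span (Set.range X) = maximalIdeal B) (hI : RingHom.ker f ≤ maximalIdeal B)
    {r : ℕ} (h : GenNum (fun i => f (X i)) r) : (RingHom.ker f).spanFinrank ≤ r := by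
  obtain ⟨w, hwz, hw⟩ := h
  choose b hb using fun k i => hf (w k i)
  let g : Fin r → B := fun k => CIReg6.comb X (b k)
  have hg : ∀ k, g k ∈ RingHom.ker f := fun k => by
    show f _ = 0
    rw [map_comb, show (fun i => f (b k i)) = w k from funext (hb k)]
    exact hwz k
  have hle : RingHom.ker f ≤ Ideal.span (Set.range g) ⊔ maximalIdeal B • RingHom.ker f := by
    intro y hy
    obtain ⟨z', hz'⟩ := exists_combination X (hX.ge (hI hy))
    have hzk : (fun i => f (z' i)) ∈ LinearMap.ker (CIReg6.comb (fun i => f (X i)) (M := A)) := by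
      rw [LinearMap.mem_ker, ← map_comb, hz']; exact hy
    obtain ⟨s, hs, t, ht, hst⟩ := Submodule.mem_sup.1 (hw hzk)
    obtain ⟨a, rfl⟩ := (Submodule.mem_span_range_iff_exists_fun A).1 hs
    choose a' ha' using fun k => hf (a k)
    obtain ⟨t', ht', rfl⟩ := exists_triv_lift f hf X ht
    have ht0 : CIReg6.comb X t' = 0 := CIReg6.triv_le_ker X ht'
    let d : Fin n → B := z' - ∑ k, a' k • b k - t'
    have hd : ∀ i, d i ∈ RingHom.ker f := fun i => by
      have := congrFun hst i
      simp only [Pi.add_apply, Finset.sum_apply, Pi.smul_apply, smul_eq_mul] at this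
      rw [RingHom.mem_ker]
      simp only [d, Pi.sub_apply, Finset.sum_apply, Pi.smul_apply, smul_eq_mul, map_sub, map_sum, map_mul, ha', hb]
      rw [← this]; ring
    have e : y = ∑ k, a' k * g k + ∑ i, X i * d i := by
      have : CIReg6.comb X d = y - ∑ k, a' k * g k := by
        simp only [d, map_sub, map_sum, map_smul, hz', ht0, smul_eq_mul, sub_zero, g]
      rw [CIReg6.comb_apply] at this
      simp only [smul_eq_mul] at this
      rw [this]; abel
    rw [e]
    exact add_mem (Submodule.mem_sup_left (Submodule.sum_mem _ fun k _ =>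
        Ideal.mul_mem_left _ _ (Ideal.subset_span ⟨k, rfl⟩)))
      (Submodule.mem_sup_right (Submodule.sum_mem _ fun i _ => by
        rw [smul_eq_mul]
        exact Ideal.mul_mem_mul (hX ▸ Ideal.subset_span ⟨i, rfl⟩) (hd i)))
  have heq : RingHom.ker f = Ideal.span (Set.range g) :=
    le_antisymm (Submodule.le_of_le_smul_of_le_jacobson_bot (IsNoetherian.noetherian _)
      (maximalIdeal_le_jacobson ⊥) hle) (Ideal.span_le.2 (by rintro _ ⟨k, rfl⟩; exact hg k))
  rw [heq]
  refine (Submodule.spanFinrank_span_le_ncard_of_finite (Set.finite_range _)).trans ?_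
  rw [← Nat.card_coe_set_eq]
  exact (Finite.card_range_le _).trans (Nat.card_fin r).le

variable [IsLocalRing A] [IsNoetherianRing A]

theorem exists_fin_gens {R : Type u} [CommRing R] [IsLocalRing R] [IsNoetherianRing R] (I : Ideal R) :
    ∃ g : Fin I.spanFinrank → R, Ideal.span (Set.range g) = I := by
  obtain ⟨l, hl, hlen⟩ := CI2.exists_generators I
  refine ⟨fun i => l.get (i.cast hlen.symm), ?_⟩
  have : Set.range (fun i : Fin I.spanFinrank => l.get (i.cast hlen.symm)) = {a | a ∈ l} := by
    rw [← Set.range_list_get]
    exact (finCongr hlen.symm).surjective.range_comp l.get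
  rw [this]
  exact hl

/-- The deficiency of a presentation is read off from the relations of a minimal system of generators. -/
theorem deficiency : ∀ (e : ℕ) (B : Type u) [CommRing B] [IsRegularLocalRing B] (f : B →+* A),
    Function.Surjective f → (maximalIdeal B).spanFinrank = e →
    ∀ {n r : ℕ} (x : Fin n → A), Ideal.span (Set.range x) = maximalIdeal A → n = (maximalIdeal A).spanFinrank →
    GenNum x r → (∀ r', GenNum x r' → r ≤ r') →
    (e : ℤ) - ((RingHom.ker f).spanFinrank : ℤ) = (n : ℤ) - (r : ℤ) := by
  intro e
  induction e using Nat.strong_induction_on with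
  | _ e ih =>
    intro B _ _ f hf he n r x hx hn hr hmin
    haveI : IsLocalHom f := hf.isLocalHom
    have hI : RingHom.ker f ≤ maximalIdeal B := le_maximalIdeal (RingHom.ker_ne_top f)
    by_cases h2 : RingHom.ker f ≤ maximalIdeal B ^ 2
    · choose X hX using fun i => hf (x i)
      have hXm : ∀ i, X i ∈ maximalIdeal B := fun i hu => by
        have : x i ∈ maximalIdeal A := hx ▸ Ideal.subset_span ⟨i, rfl⟩
        exact this (hX i ▸ hu.map f)
      have hXspan : Ideal.span (Set.range X) = maximalIdeal B := by
        refine le_antisymm (Ideal.span_le.2 (by rintro _ ⟨i, rfl⟩; exact hXm i))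
          (Submodule.le_of_le_smul_of_le_jacobson_bot (IsNoetherian.noetherian _) (maximalIdeal_le_jacobson ⊥) ?_)
        intro b hb
        have h1 : f b ∈ (Ideal.span (Set.range X)).map f := by
          rw [Ideal.map_span, ← Set.range_comp, show f ∘ X = x from funext hX, hx]
          exact map_nonunit f b hb
        obtain ⟨c, hc, hcb⟩ := (Ideal.mem_map_iff_of_surjective f hf).1 h1
        rw [← add_sub_cancel c b]
        refine add_mem (Submodule.mem_sup_left hc) (Submodule.mem_sup_right ?_)
        rw [smul_eq_mul, ← pow_two]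
        exact h2 (by rw [RingHom.mem_ker, map_sub, hcb, sub_self])
      have hne : e ≤ n := by
        rw [← he, ← hXspan]
        refine (Submodule.spanFinrank_span_le_ncard_of_finite (Set.finite_range _)).trans ?_
        rw [← Nat.card_coe_set_eq]
        exact (Finite.card_range_le _).trans (Nat.card_fin n).le
      have hen : n ≤ e := by
        rw [hn, ← he]
        have hmap := IsLocalRing.map_maximalIdeal_of_surjective f hf
        obtain ⟨g, hg⟩ := exists_fin_gens (maximalIdeal B)
        rw [← hmap, ← hg, Ideal.map_span, ← Set.range_comp]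
        refine (Submodule.spanFinrank_span_le_ncard_of_finite (Set.finite_range _)).trans ?_
        rw [← Nat.card_coe_set_eq]
        refine (Finite.card_range_le _).trans ?_
        rw [Nat.card_fin, hg]
      obtain rfl : n = e := le_antisymm hen hne
      have hreg := (RegLoc.regular_of_independent n B X hXm fun a ha =>
        coeff_mem_of_minimal X hXspan he.ge a ha).2
      have hK := ker_comb_le_triv X hreg.toIsWeaklyRegular
      have hfX : (fun i => f (X i)) = x := funext hX
      obtain ⟨g, hg⟩ := exists_fin_gens (RingHom.ker f)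
      have h3 : r ≤ (RingHom.ker f).spanFinrank :=
        hmin _ (hfX ▸ genNum_of_gens f hf X (hI.trans hXspan.ge) hK g hg)
      have h4 : (RingHom.ker f).spanFinrank ≤ r := spanFinrank_ker_le f hf X hXspan hI (hfX.symm ▸ hr)
      omega
    · obtain ⟨a, ha, ha2⟩ := SetLike.not_le_iff_exists.1 h2
      obtain ⟨hreg, hdim⟩ := RegLoc.quotient_span_singleton (hI ha) ha2
      let K := Ideal.span ({a} : Set B)
      let f' : B ⧸ K →+* A := Ideal.Quotient.lift K f fun b hb => by
        obtain ⟨c, rfl⟩ := Ideal.mem_span_singleton'.1 hb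
        rw [map_mul, show f a = 0 from ha, mul_zero]
      have hf' : Function.Surjective f' := fun y => by
        obtain ⟨b, rfl⟩ := hf y
        exact ⟨Ideal.Quotient.mk K b, rfl⟩
      have hker : RingHom.ker f' = (RingHom.ker f).map (Ideal.Quotient.mk K) := Ideal.ker_quotient_lift _ _
      have hrec := ih (maximalIdeal (B ⧸ K)).spanFinrank
        (show (maximalIdeal (B ⧸ Ideal.span ({a} : Set B))).spanFinrank < e by omega) (B ⧸ K) f' hf' rfl x hx hn hr hmin
      obtain ⟨g, hg⟩ := exists_fin_gens (RingHom.ker f)
      obtain ⟨c, hc⟩ := (Submodule.mem_span_range_iff_exists_fun B).1 (hg.ge ha)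
      obtain ⟨k, hk⟩ : ∃ k, IsUnit (c k) := by
        by_contra hno
        push Not at hno
        refine ha2 (hc ▸ Submodule.sum_mem _ fun k _ => ?_)
        rw [smul_eq_mul, pow_two]
        exact Ideal.mul_mem_mul ((mem_maximalIdeal _).2 (hno k)) (hI (hg ▸ Ideal.subset_span ⟨k, rfl⟩))
      have h5 : (RingHom.ker f').spanFinrank + 1 ≤ (RingHom.ker f).spanFinrank := by
        generalize hμ : (RingHom.ker f).spanFinrank = μ at g k c
        cases μ with
        | zero => exact k.elim0
        | succ s =>
          have hsum : ∑ i, c i • g i ∈ K := hc.symm ▸ Ideal.mem_span_singleton_self a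
          have h6 := exists_remove (M := B) K g c k hk hsum
          have h7 : RingHom.ker f' = Ideal.span (Set.range fun j => Ideal.Quotient.mk K (g (k.succAbove j))) := by
            rw [hker]
            refine le_antisymm ?_ (Ideal.span_le.2 ?_)
            · rw [Ideal.map_le_iff_le_comap, ← hg]
              refine h6.trans (sup_le (Ideal.span_le.2 ?_) fun b hb => ?_)
              · rintro _ ⟨j, rfl⟩; exact Ideal.subset_span ⟨j, rfl⟩
              · rw [Ideal.mem_comap, Ideal.Quotient.eq_zero_iff_mem.2 hb]; exact zero_mem _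
            · rintro _ ⟨j, rfl⟩
              exact Ideal.mem_map_of_mem _ (hg ▸ Ideal.subset_span ⟨_, rfl⟩)
          rw [h7]
          refine Nat.add_le_add_right ((Submodule.spanFinrank_span_le_ncard_of_finite (Set.finite_range _)).trans ?_) 1
          rw [← Nat.card_coe_set_eq]
          exact (Finite.card_range_le _).trans (Nat.card_fin s).le
      have h8 : (RingHom.ker f).spanFinrank ≤ (RingHom.ker f').spanFinrank + 1 := by
        obtain ⟨g', hg'⟩ := exists_fin_gens (RingHom.ker f')
        choose g₀ hg₀ using fun j => Ideal.Quotient.mk_surjective (I := K) (g' j)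
        have h9 : RingHom.ker f = Ideal.span (Set.range (Fin.cons a g₀ : Fin (_ + 1) → B)) := by
          refine le_antisymm (fun b hb => ?_) (Ideal.span_le.2 ?_)
          · have : Ideal.Quotient.mk K b ∈ Ideal.span (Set.range g') := by
              rw [hg', hker]; exact Ideal.mem_map_of_mem _ hb
            rw [show g' = Ideal.Quotient.mk K ∘ g₀ from (funext hg₀).symm, Set.range_comp, ← Ideal.map_span] at this
            obtain ⟨y, hy, hyb⟩ := (Ideal.mem_map_iff_of_surjective _ Ideal.Quotient.mk_surjective).1 this
            obtain ⟨d, hd⟩ := Ideal.mem_span_singleton'.1 (Ideal.Quotient.eq.1 hyb.symm : b - y ∈ K)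
            rw [Fin.range_cons, Ideal.span_insert, show b = d * a + y by rw [hd]; ring]
            exact add_mem (Submodule.mem_sup_left (Ideal.mem_span_singleton'.2 ⟨d, rfl⟩)) (Submodule.mem_sup_right hy)
          · rintro _ ⟨i, rfl⟩
            refine Fin.cases ?_ (fun j => ?_) i
            · simpa using ha
            · rw [Fin.cons_succ]
              show f _ = 0
              rw [show f (g₀ j) = f' (Ideal.Quotient.mk K (g₀ j)) from rfl, hg₀]
              exact RingHom.mem_ker.1 (hg' ▸ Ideal.subset_span ⟨j, rfl⟩)
        rw [h9]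
        refine (Submodule.spanFinrank_span_le_ncard_of_finite (Set.finite_range _)).trans ?_
        rw [← Nat.card_coe_set_eq]
        exact (Finite.card_range_le _).trans (Nat.card_fin _).le
      have h10 : (maximalIdeal (B ⧸ K)).spanFinrank + 1 = e := he ▸ hdim
      omega

/-- A minimal system of generators with a least number of relations. -/
theorem exists_min
    (x : Fin (maximalIdeal A).spanFinrank → A) (hx : Ideal.span (Set.range x) = maximalIdeal A) :
    ∃ r, GenNum x r ∧ ∀ r', GenNum x r' → r ≤ r' := by
  classical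
  suffices h : ∃ r, GenNum x r from ⟨Nat.find h, Nat.find_spec h, fun r' hr' => Nat.find_min' h hr'⟩
  obtain ⟨r, w, hw⟩ := Submodule.fg_iff_exists_fin_generating_family.1
    (IsNoetherian.noetherian (LinearMap.ker (CIReg6.comb x (M := A))))
  exact ⟨r, w, fun k => hw ▸ Submodule.subset_span ⟨k, rfl⟩, hw.ge.trans le_sup_left⟩

end Groth.Agent.GeomDepth2
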